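/-
Hall {p, q}-subgroups of p-solvable groups containing a given Sylow p-subgroup.
-/
import Cfsg.Agent.Coprime.PComplementPSolvable
import Cfsg.Agent.Chars.Burnside
import Cfsg.Agent.SolvStruct.CoprimeOrbits

set_option autoImplicit false

namespace Cfsg.Lib.Automizer

open Subgroup

universe u

/-- The order of `G` has no prime divisors besides `p` and `q`. -/
def PQ (p q : ℕ) (G : Type*) [Group G] : Prop :=
  ∀ r : ℕ, r.Prime → r ∣ Nat.card G → r = p ∨ r = q

theorem exists_qpart {G H : Type*} [Group G] [Group H] [Finite G] {q : ℕ} [hq : Fact q.Prime]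
    (f : G →* H) {y₀ : G} {k : ℕ} (h : orderOf (f y₀) = q ^ k) :
    ∃ y ∈ zpowers y₀, (∃ m, orderOf y = q ^ m) ∧ f y = f y₀ := by
  obtain ⟨m, c, hc, hm⟩ := Nat.exists_eq_pow_mul_and_not_dvd (orderOf_pos y₀).ne' q hq.out.ne_one
  have hcop : (c : ℕ).Coprime (q ^ k) :=
    ((hq.out.coprime_iff_not_dvd.2 hc).symm).pow_right k
  obtain ⟨d, hd⟩ : ∃ d : ℤ, ((q : ℤ) ^ k) ∣ (c : ℤ) * d - 1 := by
    obtain ⟨a, b, hab⟩ := (Int.isCoprime_iff_gcd_eq_one.2 (by
      rw [← Nat.cast_pow, Int.gcd_natCast_natCast]; exact hcop) : IsCoprime (c : ℤ) ((q : ℤ) ^ k))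
    exact ⟨a, -b, by linear_combination hab⟩
  refine ⟨(y₀ ^ c) ^ d, zpow_mem (pow_mem (mem_zpowers y₀) c) d, ?_, ?_⟩
  · have h1 : (y₀ ^ c) ^ q ^ m = 1 := by rw [← pow_mul, mul_comm, ← hm, pow_orderOf_eq_one]
    have h2 : ((y₀ ^ c) ^ d) ^ q ^ m = 1 := by
      rw [← zpow_natCast, ← zpow_mul, mul_comm, zpow_mul, zpow_natCast, h1, one_zpow]
    obtain ⟨i, -, hi⟩ := (Nat.dvd_prime_pow hq.out).1 (orderOf_dvd_of_pow_eq_one h2)
    exact ⟨i, hi⟩
  · rw [map_zpow, map_pow, ← zpow_natCast, ← zpow_mul]
    have h3 : (f y₀) ^ ((c : ℤ) * d - 1) = 1 := by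
      rw [← orderOf_dvd_iff_zpow_eq_one, h]
      exact_mod_cast hd
    rwa [zpow_sub_one, mul_inv_eq_one] at h3

variable {G : Type u} [Group G] [Finite G]

theorem relIndex_sup_mul_card_inf (H N : Subgroup G) [N.Normal] :
    H.relIndex (H ⊔ N) * Nat.card (N ⊓ H : Subgroup G) = Nat.card N := by
  have h1 := Cfsg.Lib.Coprime.card_sup_mul_card_inf (N := N) (H := H)
    (by rw [normalizer_eq_top]; exact le_top)
  have h2 : Nat.card H * H.relIndex (H ⊔ N) = Nat.card (H ⊔ N : Subgroup G) := by
    rw [← relIndex_bot_left, relIndex_mul_relIndex _ _ _ bot_le le_sup_left, relIndex_bot_left]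
  rw [sup_comm N H] at h1
  refine Nat.eq_of_mul_eq_mul_left (Nat.card_pos (α := H)) ?_
  calc Nat.card H * (H.relIndex (H ⊔ N) * Nat.card (N ⊓ H : Subgroup G))
      = Nat.card (H ⊔ N : Subgroup G) * Nat.card (N ⊓ H : Subgroup G) := by rw [← h2]; ring
    _ = Nat.card H * Nat.card N := by rw [h1]; ring

theorem sylow_inf_normal {p : ℕ} [Fact p.Prime] (T : Sylow p G) (N : Subgroup G) [N.Normal] :
    ∃ P : Sylow p N, (P : Subgroup N).map N.subtype = (T : Subgroup G) ⊓ N := by
  have hidx : ¬ p ∣ ((T : Subgroup G).subgroupOf N).index := by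
    intro h
    have h1 := relIndex_sup_mul_card_inf (T : Subgroup G) N
    have h2 := ((T : Subgroup G).subgroupOf N).card_mul_index
    have hc : Nat.card ((T : Subgroup G).subgroupOf N) = Nat.card (N ⊓ (T : Subgroup G) : Subgroup G) := by
      rw [inf_comm, ← Nat.card_congr ((((T : Subgroup G).subgroupOf N)).equivMapOfInjective N.subtype
        N.subtype_injective).toEquiv.symm, subgroupOf_map_subtype]
    rw [hc, mul_comm] at h2
    rw [← h2] at h1
    have h3 := Nat.eq_of_mul_eq_mul_right Nat.card_pos h1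
    refine T.not_dvd_index (h.trans ?_)
    rw [← h3]
    exact ⟨((T : Subgroup G) ⊔ N).index, (relIndex_mul_index le_sup_left).symm⟩
  refine ⟨(T.isPGroup'.comap_subtype : IsPGroup p ((T : Subgroup G).subgroupOf N)).toSylow hidx, ?_⟩
  exact subgroupOf_map_subtype _ _

variable {p q : ℕ}

theorem pq_of_extension {N : Subgroup G} [N.Normal] (h1 : PQ p q N) (h2 : PQ p q (G ⧸ N)) :
    PQ p q G := by
  intro r hr hd
  rw [Subgroup.card_eq_card_quotient_mul_card_subgroup N] at hd
  rcases (Nat.Prime.dvd_mul hr).1 hd with h | h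
  · exact h2 r hr h
  · exact h1 r hr h

theorem pq_of_isPGroup {r : ℕ} [Fact r.Prime] (hr : r = p ∨ r = q) {N : Subgroup G}
    (hN : IsPGroup r N) : PQ p q N := by
  intro s hs hd
  obtain ⟨n, hn⟩ := IsPGroup.iff_card.1 hN
  rw [hn] at hd
  rw [(Nat.prime_dvd_prime_iff_eq hs Fact.out).1 (hs.dvd_of_dvd_pow hd)]
  exact hr

theorem exists_pq_hall_aux [hp : Fact p.Prime] [hq : Fact q.Prime] (hpq : p ≠ q) (n : ℕ) :
    ∀ (G : Type u) [Group G] [Finite G], Nat.card G ≤ n → Cfsg.IsPSolvable p G →
      ∀ T : Sylow p G, ∃ R : Subgroup G, (T : Subgroup G) ≤ R ∧ PQ p q R ∧ ¬ q ∣ R.index := by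
  induction n with
  | zero => intro G _ _ hc; exact absurd hc (by have := Nat.card_pos (α := G); omega)
  | succ n ih =>
    intro G _ _ hcard hsol T
    classical
    by_cases hG : PQ p q G
    · refine ⟨⊤, le_top, fun r hr hd => hG r hr (by rwa [Subgroup.card_top] at hd), ?_⟩
      rw [index_top]; exact hq.out.not_dvd_one
    have inSub : ∀ M : Subgroup G, (T : Subgroup G) ≤ M → M ≠ ⊤ → ¬ q ∣ M.index →
        ∃ R : Subgroup G, (T : Subgroup G) ≤ R ∧ PQ p q R ∧ ¬ q ∣ R.index := by
      intro M hTM hM hMi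
      have hlt : Nat.card M < Nat.card G := by
        refine lt_of_le_of_ne M.card_le_card_group fun e => hM (eq_top_of_card_eq M e)
      obtain ⟨R, hTR, hR, hRi⟩ := ih M (by omega)
        (Cfsg.Lib.SolvStruct.CoprimeOrbits.isPSolvable_subgroup hsol hp.out M) (T.subtype hTM)
      refine ⟨R.map M.subtype, ?_, fun r hr hd => hR r hr ?_, ?_⟩
      · intro t ht
        exact ⟨⟨t, hTM ht⟩, hTR (show (⟨t, hTM ht⟩ : M) ∈ (T.subtype hTM : Subgroup M) from ht), rfl⟩
      · rwa [← Nat.card_congr (R.equivMapOfInjective M.subtype M.subtype_injective).toEquiv] at hd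
      · rw [Subgroup.index_map_subtype]
        exact fun h => ((Nat.Prime.dvd_mul hq.out).1 h).elim hRi hMi
    have step : ∀ N : Subgroup G, N.Normal → N ≠ ⊥ →
        (∃ R : Subgroup G, (T : Subgroup G) ≤ R ∧ PQ p q R ∧ ¬ q ∣ R.index) ∨
          ∀ r : ℕ, r.Prime → r ∣ N.index → r = p ∨ r = q := by
      intro N hN hN1
      haveI := hN
      have hsur := QuotientGroup.mk'_surjective N
      obtain ⟨R, hTR, hR, hRi⟩ := ih (G ⧸ N) (by
        have := Cfsg.Lib.Coprime.card_quotient_lt hN1; omega)
        (Cfsg.Lib.GaschutzYen.isPSolvable_quotient N hsol) (T.mapSurjective hsur)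
      by_cases htop : R.comap (QuotientGroup.mk' N) = ⊤
      · right
        intro r hr hd
        refine hR r hr ?_
        have : R = ⊤ := by
          rw [← map_comap_eq_self_of_surjective hsur R, htop, map_top_of_surjective _ hsur]
        rwa [this, Subgroup.card_top, ← Subgroup.index_eq_card]
      · left
        refine inSub _ ?_ htop (by rwa [index_comap_of_surjective _ hsur])
        exact le_trans (le_comap_map _ _) (comap_mono (by rwa [Sylow.coe_mapSurjective] at hTR))
    haveI : Nontrivial G := by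
      by_contra h
      haveI := not_nontrivial_iff_subsingleton.1 h
      refine hG fun r hr hd => ?_
      rw [Nat.card_of_subsingleton (1 : G)] at hd
      exact absurd hd hr.not_dvd_one
    obtain ⟨N, hN, hN1, hN2⟩ := Cfsg.Lib.Coprime.exists_normal_p_or_prime G hsol
    haveI := hN
    rcases step N hN hN1 with h | hidx
    · exact h
    have hquot : PQ p q (G ⧸ N) := fun r hr hd => hidx r hr (by rwa [Subgroup.index_eq_card])
    rcases hN2 with hNp | hNp
    · exact absurd (pq_of_extension (pq_of_isPGroup (Or.inl rfl) hNp) hquot) hG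
    -- `N` has order prime to `p`
    have hcop : (Nat.card (T : Subgroup G)).Coprime (Nat.card N) := by
      obtain ⟨a, ha⟩ := IsPGroup.iff_card.1 T.isPGroup'
      rw [ha]
      exact (hp.out.coprime_iff_not_dvd.2 hNp).pow_left a
    have hTsol : Group.IsSolvable (T : Subgroup G) :=
      haveI := T.isPGroup'.isNilpotent; inferInstance
    obtain ⟨Q₀, hQ₀⟩ := Cfsg.Lib.Coprime.exists_invariant_sylow (A := (T : Subgroup G)) (K := N)
      (by rw [normalizer_eq_top]; exact le_top) hcop (Or.inl hTsol) q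
    set Q := (Q₀ : Subgroup N).map N.subtype with hQ
    by_cases hM : normalizer (Q : Set G) = ⊤
    · haveI hQn : Q.Normal := normalizer_eq_top_iff.1 hM
      by_cases hQ1 : Q = ⊥
      · -- `N` has order prime to `p` and `q`
        have hqN : ¬ q ∣ Nat.card N := by
          intro h
          have := Q₀.ne_bot_of_dvd_card h
          exact this ((Subgroup.map_eq_bot_iff_of_injective _ N.subtype_injective).1 hQ1)
        have hco : (Nat.card N).Coprime N.index := Nat.coprime_of_dvd fun r hr hr1 hr2 => by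
          rcases hidx r hr hr2 with rfl | rfl
          · exact hNp hr1
          · exact hqN hr1
        obtain ⟨R₀, hR₀⟩ := Subgroup.exists_right_complement'_of_coprime hco
        have hR₀c : Nat.card R₀ = N.index := by
          have h1 := hR₀.card_mul
          rw [← N.card_mul_index] at h1
          exact Nat.eq_of_mul_eq_mul_left Nat.card_pos h1
        have hR₀i : R₀.index = Nat.card N := by
          have h1 := R₀.card_mul_index
          rw [← hR₀.card_mul, mul_comm (Nat.card N)] at h1
          exact Nat.eq_of_mul_eq_mul_left Nat.card_pos h1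
        obtain ⟨T₀⟩ : Nonempty (Sylow p R₀) := inferInstance
        obtain ⟨T₁, hT₁⟩ := (T₀.isPGroup'.map R₀.subtype).exists_le_sylow
        have hT₁R : (T₁ : Subgroup G) ≤ R₀ := by
          have hle : Nat.card (T₁ : Subgroup G) ≤ Nat.card ((T₀ : Subgroup R₀).map R₀.subtype) := by
            rw [← Nat.card_congr ((T₀ : Subgroup R₀).equivMapOfInjective R₀.subtype
              R₀.subtype_injective).toEquiv, T₀.card_eq_multiplicity, T₁.card_eq_multiplicity,
              hR₀c, ← N.card_mul_index, Nat.factorization_mul Nat.card_pos.ne' Subgroup.index_ne_zero_of_finite,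
              Finsupp.add_apply, Nat.factorization_eq_zero_of_not_dvd hNp, zero_add]
          exact (eq_of_le_of_card_ge hT₁ hle) ▸ map_subtype_le _
        obtain ⟨g, hg⟩ := MulAction.exists_smul_eq G T₁ T
        refine ⟨R₀.map (MulAut.conj g).toMonoidHom, ?_, ?_, ?_⟩
        · rw [← hg, Sylow.coe_subgroup_smul]
          intro t ht
          obtain ⟨s, hs, rfl⟩ := ht
          exact ⟨s, hT₁R hs, rfl⟩
        · intro r hr hd
          rw [← Nat.card_congr (R₀.equivMapOfInjective _ (MulAut.conj g).injective).toEquiv, hR₀c] at hd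
          exact hidx r hr hd
        · rw [Subgroup.index_map_of_bijective (MulAut.conj g).bijective, hR₀i]
          exact hqN
      · rcases step Q hQn hQ1 with h | hidx'
        · exact h
        refine absurd (pq_of_extension (N := Q) (pq_of_isPGroup (Or.inr rfl) (Q₀.isPGroup'.map _))
          fun r hr hd => hidx' r hr ?_) hG
        rwa [Subgroup.index_eq_card]
    · refine inSub _ hQ₀ hM ?_
      have hsup : normalizer (Q : Set G) ⊔ N = ⊤ := Sylow.normalizer_sup_eq_top Q₀
      have h1 := relIndex_sup_mul_card_inf (normalizer (Q : Set G)) N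
      rw [hsup, relIndex_top_right] at h1
      intro hq'
      have hQle : Q ≤ N ⊓ normalizer (Q : Set G) := le_inf (map_subtype_le _) le_normalizer
      obtain ⟨k, hk⟩ := Subgroup.card_dvd_of_le hQle
      have h2 := (Q₀ : Subgroup N).card_mul_index
      rw [hk, Nat.card_congr ((Q₀ : Subgroup N).equivMapOfInjective N.subtype N.subtype_injective).toEquiv.symm,
        ← h2] at h1
      rw [mul_comm (normalizer (Q : Set G)).index, mul_assoc] at h1
      have h3 := Nat.eq_of_mul_eq_mul_left Nat.card_pos h1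
      exact Q₀.not_dvd_index (h3 ▸ dvd_mul_of_dvd_right hq' k)

theorem exists_pq_hall [Fact p.Prime] [Fact q.Prime] (hpq : p ≠ q) (hsol : Cfsg.IsPSolvable p G)
    (T : Sylow p G) : ∃ R : Subgroup G, (T : Subgroup G) ≤ R ∧ PQ p q R ∧ ¬ q ∣ R.index :=
  exists_pq_hall_aux hpq _ G le_rfl hsol T

end Cfsg.Lib.Automizer
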