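/-
In a {p, q}-group with trivial p'-core, {p, q} ≠ {2, 3}, some characteristic subgroup of a Sylow
p-subgroup is normalised but not centralised by a q-element.
-/
import Cfsg.Agent.SolvStruct.Automizer.PQHall
import Cfsg.Agent.S0618
import Cfsg.Agent.Thompson.PComplement
import Cfsg.Agent.Components.Local
import Cfsg.Agent.Blocks.ItoDegrees

set_option autoImplicit false

namespace Cfsg.Lib.Automizer

open Subgroup

universe u

variable {G : Type u} [Group G]

/-- `K` is a characteristic subgroup of `T`, both seen inside the ambient group. -/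
def CharSub (T K : Subgroup G) : Prop :=
  K ≤ T ∧ ∀ φ : MulAut T, ∀ x : T, (x : G) ∈ K → (φ x : G) ∈ K

theorem CharSub.normalizer_le {T K : Subgroup G} (h : CharSub T K) :
    normalizer (T : Set G) ≤ normalizer (K : Set G) := by
  intro g hg
  have key : ∀ a ∈ normalizer (T : Set G), ∀ x ∈ K, a * x * a⁻¹ ∈ K := by
    intro a ha x hx
    let φ : MulAut T :=
      { toFun := fun t => ⟨a * t * a⁻¹, (mem_normalizer_iff.1 ha t).1 t.2⟩
        invFun := fun t => ⟨a⁻¹ * t * a, (mem_normalizer_iff'.1 ha _).2 (by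
          show a * (a⁻¹ * t) ∈ T
          rw [mul_inv_cancel_left]; exact t.2)⟩
        left_inv := fun t => Subtype.ext (by show a⁻¹ * (a * t * a⁻¹) * a = t; group)
        right_inv := fun t => Subtype.ext (by show a * (a⁻¹ * t * a) * a⁻¹ = t; group)
        map_mul' := fun s t => Subtype.ext (by
          show a * (s * t : T) * a⁻¹ = a * s * a⁻¹ * (a * t * a⁻¹)
          rw [Subgroup.coe_mul]; group) }
    exact h.2 φ ⟨x, h.1 hx⟩ hx
  rw [mem_normalizer_iff]
  refine fun x => ⟨key g hg x, fun hx => ?_⟩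
  have := key g⁻¹ (inv_mem hg) _ hx
  rwa [inv_inv, show g⁻¹ * (g * x * g⁻¹) * g = x by group] at this

/-- Transport along the inclusion of a subgroup containing `T`. -/
theorem CharSub.map_subtype {M T : Subgroup G} (hTM : T ≤ M) {K : Subgroup M}
    (h : CharSub (T.subgroupOf M) K) : CharSub T (K.map M.subtype) := by
  refine ⟨fun x ⟨y, hy, e⟩ => e ▸ h.1 hy, fun φ x hx => ?_⟩
  obtain ⟨y, hy, hyx⟩ := hx
  set e := subgroupOfEquivOfLe hTM with he
  have h2 := h.2 ((e.trans φ).trans e.symm) ⟨y, h.1 hy⟩ hy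
  have hx' : e ⟨y, h.1 hy⟩ = x := Subtype.ext hyx
  refine ⟨_, h2, ?_⟩
  show (((e.symm (φ (e ⟨y, h.1 hy⟩))) : T.subgroupOf M) : M).1 = (φ x : G)
  rw [hx']
  rfl

/-- Transport from a quotient. -/
theorem CharSub.comap {T W : Subgroup G} [W.Normal] (hW : CharSub T W) {K : Subgroup (G ⧸ W)}
    (h : CharSub (T.map (QuotientGroup.mk' W)) K) :
    CharSub T (K.comap (QuotientGroup.mk' W)) := by
  have hle : K.comap (QuotientGroup.mk' W) ≤ T := by
    refine (comap_mono h.1).trans ?_
    rw [comap_map_eq, QuotientGroup.ker_mk']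
    exact sup_le le_rfl hW.1
  refine ⟨hle, fun φ x hx => ?_⟩
  set Tb := T.map (QuotientGroup.mk' W) with hTb
  let f : T →* Tb := (QuotientGroup.mk' W).subgroupMap T
  have hf : Function.Surjective f := MonoidHom.subgroupMap_surjective _ _
  have hker : ∀ {t : T}, t ∈ f.ker ↔ (t : G) ∈ W := fun {t} => by
    rw [MonoidHom.mem_ker, ← Subtype.val_inj]
    exact QuotientGroup.eq_one_iff (N := W) (t : G)
  have hpres : ∀ ψ : MulAut T, f.ker ≤ (f.comp ψ.toMonoidHom).ker := fun ψ t ht =>
    hker.2 (hW.2 ψ t (hker.1 ht))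
  let ψ : MulAut T → (Tb →* Tb) := fun α => f.liftOfSurjective hf ⟨f.comp α.toMonoidHom, hpres α⟩
  have hψ : ∀ α t, ψ α (f t) = f (α t) := fun α t =>
    f.liftOfRightInverse_comp_apply _ _ ⟨f.comp α.toMonoidHom, hpres α⟩ t
  let e : MulAut Tb :=
    { toFun := ψ φ
      invFun := ψ φ⁻¹
      left_inv := fun y => by
        obtain ⟨t, rfl⟩ := hf y
        rw [hψ, hψ, MulAut.inv_apply_self]
      right_inv := fun y => by
        obtain ⟨t, rfl⟩ := hf y
        rw [hψ, hψ, MulAut.apply_inv_self]
      map_mul' := map_mul _ }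
  have h2 := h.2 e (f x) hx
  have h3 : e (f x) = f (φ x) := hψ φ x
  rw [h3] at h2
  exact h2

theorem charSub_thompson {p : ℕ} [Fact p.Prime] (T : Subgroup G) :
    CharSub T (Cfsg.thompsonSubgroupOf p T) := by
  refine ⟨Cfsg.Lib.Thompson.thompsonSubgroupOf_le T, fun φ x hx => ?_⟩
  have hinj : ∀ f : T →* G, Function.Injective f → Set.InjOn f (⊤ : Subgroup T) :=
    fun f hf => hf.injOn
  have h1 := Cfsg.Lib.Thompson.map_thompsonSubgroupOf (p := p) (hinj T.subtype T.subtype_injective)
  have h2 := Cfsg.Lib.Thompson.map_thompsonSubgroupOf (p := p)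
    (hinj (T.subtype.comp φ.toMonoidHom) (T.subtype_injective.comp φ.injective))
  rw [← MonoidHom.range_eq_map, Subgroup.range_subtype] at h1
  rw [← MonoidHom.range_eq_map, MonoidHom.range_comp, MonoidHom.range_eq_top.2 φ.surjective,
    ← MonoidHom.range_eq_map, Subgroup.range_subtype] at h2
  rw [← h1] at hx
  obtain ⟨y, hy, hyx⟩ := hx
  rw [← h2]
  exact ⟨y, hy, by rw [show y = x from Subtype.ext hyx]; rfl⟩

theorem charSub_omega (p : ℕ) (T : Subgroup G) :
    CharSub T (Cfsg.omegaOne p (T ⊓ centralizer (T : Set G))) := by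
  have hle : Cfsg.omegaOne p (T ⊓ centralizer (T : Set G)) ≤ T := by
    rw [Cfsg.omegaOne, closure_le]
    exact fun x hx => (mem_inf.1 hx.1).1
  refine ⟨hle, fun φ x hx => ?_⟩
  have key : ∀ z, z ∈ Cfsg.omegaOne p (T ⊓ centralizer (T : Set G)) →
      ∀ hz : z ∈ T, (φ ⟨z, hz⟩ : G) ∈ Cfsg.omegaOne p (T ⊓ centralizer (T : Set G)) := by
    intro z hz
    rw [Cfsg.omegaOne] at hz
    induction hz using closure_induction with
    | mem y hy =>
        intro hyT
        refine subset_closure ⟨mem_inf.2 ⟨(φ ⟨y, hyT⟩).2, mem_centralizer_iff.2 fun t ht => ?_⟩, ?_⟩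
        · have hc : (φ.symm ⟨t, ht⟩) * ⟨y, hyT⟩ = ⟨y, hyT⟩ * φ.symm ⟨t, ht⟩ := Subtype.ext
            ((mem_centralizer_iff.1 (mem_inf.1 hy.1).2) _ (φ.symm ⟨t, ht⟩).2)
          have := congrArg (fun a => ((φ a : T) : G)) hc
          simpa [map_mul] using this
        · rw [← Subgroup.coe_pow, ← map_pow, show (⟨y, hyT⟩ : T) ^ p = 1 from Subtype.ext hy.2,
            map_one, Subgroup.coe_one]
    | one => intro h; rw [show (⟨1, h⟩ : T) = 1 from rfl, map_one]; exact one_mem _
    | mul a b ha hb iha ihb =>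
        intro h
        have ha' : a ∈ T := hle ha
        have hb' : b ∈ T := hle hb
        rw [show (⟨a * b, h⟩ : T) = ⟨a, ha'⟩ * ⟨b, hb'⟩ from rfl, map_mul]
        exact mul_mem (iha ha') (ihb hb')
    | inv a ha iha =>
        intro h
        have ha' : a ∈ T := hle ha
        rw [show (⟨a⁻¹, h⟩ : T) = ⟨a, ha'⟩⁻¹ from rfl, map_inv]
        exact inv_mem (iha ha')
  exact key x hx x.2

variable {p q : ℕ}

theorem not_dvd_of_pGroup [Fact p.Prime] [hq : Fact q.Prime] (hpq : p ≠ q) {K : Subgroup G}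
    [Finite G] (hK : IsPGroup p K) : ¬ q ∣ Nat.card K := by
  intro h
  obtain ⟨n, hn⟩ := IsPGroup.iff_card.1 hK
  rw [hn] at h
  exact hpq ((Nat.prime_dvd_prime_iff_eq hq.out Fact.out).1 (hq.out.dvd_of_dvd_pow h)).symm

theorem sl2_two : ∃ m : Matrix.SpecialLinearGroup (Fin 2) (ZMod 2), orderOf m = 3 :=
  ⟨⟨!![0, 1; 1, 1], by decide⟩, orderOf_eq_prime (Subtype.ext (by decide))
    fun h => absurd (congrArg Subtype.val h) (by decide)⟩

theorem sl2_three : ∃ m : Matrix.SpecialLinearGroup (Fin 2) (ZMod 3), orderOf m = 2 :=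
  ⟨⟨!![2, 0; 0, 2], by decide⟩, orderOf_eq_prime (Subtype.ext (by decide))
    fun h => absurd (congrArg Subtype.val h) (by decide)⟩

/-- The factorisation `C(Ω₁Z(T)) N(J(T))`. -/
theorem factorizable [Finite G] [hp : Fact p.Prime] [hq : Fact q.Prime] (hpq : p ≠ q)
    (h23 : ¬ ((p = 2 ∧ q = 3) ∨ (p = 3 ∧ q = 2))) (hsol : Group.IsSolvable G) (hG : PQ p q G)
    (hO : Cfsg.pPrimeCore p G = ⊥) (T : Sylow p G) (g : G) :
    ∃ c ∈ centralizer (Cfsg.omegaOne p ((T : Subgroup G) ⊓ centralizer ((T : Subgroup G) : Set G)) : Set G),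
      ∃ n ∈ normalizer (Cfsg.thompsonSubgroupOf p (T : Subgroup G) : Set G), g = c * n := by
  have hf : Cfsg.IsThompsonFactorizable p G := by
    by_contra hnf
    obtain ⟨hp23, E, -, -, -, hn, ⟨e⟩⟩ := Cfsg.Agent.S0618.result
      (Cfsg.Lib.Blocks.isPSolvable_of_solvable hsol) hO hnf
    have hdvd : Nat.card (Matrix.SpecialLinearGroup (Fin 2) (ZMod p)) ∣ Nat.card G := by
      rw [← Nat.card_congr e.toEquiv]
      exact (Subgroup.card_quotient_dvd_card _).trans E.card_subgroup_dvd_card
    obtain ⟨r, hr, hrne, hrd⟩ : ∃ r, r.Prime ∧ r ≠ q ∧ r ≠ p ∧ r ∣ Nat.card G := by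
      rcases hp23 with rfl | rfl
      · refine ⟨3, Nat.prime_three, fun h => h23 (Or.inl ⟨rfl, h.symm⟩), by norm_num, ?_⟩
        refine Nat.dvd_trans ?_ hdvd
        obtain ⟨m, hm⟩ := sl2_two
        exact hm ▸ (_root_.orderOf_dvd_natCard m)
      · refine ⟨2, Nat.prime_two, fun h => h23 (Or.inr ⟨rfl, h.symm⟩), by norm_num, ?_⟩
        refine Nat.dvd_trans ?_ hdvd
        obtain ⟨m, hm⟩ := sl2_three
        have hd := _root_.orderOf_dvd_natCard m
        rwa [hm] at hd
    rcases hG r hr hrd.2 with h | h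
    · exact hrd.1 h
    · exact hrne h
  obtain ⟨x, hx, c, hc, n, hn, e⟩ := hf T g
  rw [hO, mem_bot] at hx
  exact ⟨c, hc, n, hn, by rw [e, hx, one_mul]⟩

/-- Passing to an overgroup of `T` keeps the `p'`-core trivial. -/
theorem core_bot_sub [Finite G] [hp : Fact p.Prime] (hsol : Group.IsSolvable G)
    (hO : Cfsg.pPrimeCore p G = ⊥) (T : Sylow p G) {M : Subgroup G} (hTM : (T : Subgroup G) ≤ M) :
    Cfsg.pPrimeCore p M = ⊥ := by
  haveI := hsol
  set O := Cfsg.pCore p G with hOdef
  have hOM : O ≤ M := (Cfsg.Lib.Coprime.pCore_le_sylow p T).trans hTM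
  set E := (Cfsg.pPrimeCore p M).map M.subtype with hE
  have hEp : (Nat.card E).Coprime p := by
    rw [hE, ← Nat.card_congr ((Cfsg.pPrimeCore p M).equivMapOfInjective M.subtype
      M.subtype_injective).toEquiv]
    exact Cfsg.Lib.Components.coprime_card_pPrimeCore p
  have hdisj : ∀ z, z ∈ E → z ∈ O → z = 1 := fun z hzE hzO => by
    obtain ⟨a, ha⟩ := IsPGroup.iff_orderOf.1 (Cfsg.Lib.Components.isPGroup_pCore p) ⟨z, hzO⟩
    rw [Subgroup.orderOf_mk] at ha
    have h1 : orderOf z ∣ Nat.card E := by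
      rw [← Subgroup.orderOf_mk z hzE]; exact _root_.orderOf_dvd_natCard _
    have h2 : (p ^ a).Coprime (Nat.card E) := (hEp.symm).pow_left a
    rw [← orderOf_eq_one_iff]
    exact Nat.eq_one_of_dvd_coprimes h2 ha.dvd h1
  have hEc : E ≤ centralizer (O : Set G) := by
    rintro _ ⟨x, hx, rfl⟩
    refine mem_centralizer_iff.2 fun o ho => ?_
    have h1 : o * (x : G) * o⁻¹ * (x : G)⁻¹ ∈ E := by
      refine mul_mem ?_ (inv_mem ⟨x, hx, rfl⟩)
      exact ⟨⟨o, hOM ho⟩ * x * ⟨o, hOM ho⟩⁻¹, Normal.conj_mem inferInstance x hx _, rfl⟩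
    have h2 : o * (x : G) * o⁻¹ * (x : G)⁻¹ ∈ O := by
      rw [show o * (x : G) * o⁻¹ * (x : G)⁻¹ = o * ((x : G) * o⁻¹ * (x : G)⁻¹) by group]
      exact mul_mem ho (Normal.conj_mem inferInstance _ (inv_mem ho) _)
    have h3 := hdisj _ h1 h2
    rw [mul_inv_eq_one, mul_inv_eq_iff_eq_mul] at h3
    exact h3
  have : E = ⊥ := (eq_bot_iff_forall _).2 fun z hz =>
    hdisj z hz (Cfsg.Lib.Coprime.centralizer_pCore_le p hO (hEc hz))
  exact (Subgroup.map_eq_bot_iff_of_injective _ M.subtype_injective).1 this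

theorem core (hpq' : p ≠ q) [hp : Fact p.Prime] [hq : Fact q.Prime]
    (h23 : ¬ ((p = 2 ∧ q = 3) ∨ (p = 3 ∧ q = 2))) (n : ℕ) :
    ∀ (G : Type u) [Group G] [Finite G], Nat.card G ≤ n → PQ p q G → q ∣ Nat.card G →
      Cfsg.pPrimeCore p G = ⊥ → ∀ T : Sylow p G, ∃ (K : Subgroup G) (y : G),
        CharSub (T : Subgroup G) K ∧ (∃ k, orderOf y = q ^ k) ∧
          y ∈ normalizer (K : Set G) ∧ y ∉ centralizer (K : Set G) := by
  induction n with
  | zero => intro G _ _ hc; exact absurd hc (by have := Nat.card_pos (α := G); omega)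
  | succ n ih =>
    intro G _ _ hcard hG hqG hO T
    classical
    have hsol : Group.IsSolvable G := Cfsg.Lib.Chars.burnside_isSolvable p q hp.out hq.out G
      ⟨(Nat.card G).factorization p, (Nat.card G).factorization q, by
        refine Nat.eq_of_factorization_eq Nat.card_pos.ne'
          (mul_ne_zero (pow_ne_zero _ hp.out.ne_zero) (pow_ne_zero _ hq.out.ne_zero)) fun r => ?_
        rw [Nat.factorization_mul (pow_ne_zero _ hp.out.ne_zero) (pow_ne_zero _ hq.out.ne_zero),
          hp.out.factorization_pow, hq.out.factorization_pow, Finsupp.add_apply,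
          Finsupp.single_apply, Finsupp.single_apply]
        by_cases hrp : p = r
        · subst hrp; rw [if_pos rfl, if_neg (Ne.symm hpq'), add_zero]
        by_cases hrq : q = r
        · subst hrq; rw [if_neg hrp, if_pos rfl, zero_add]
        rw [if_neg hrp, if_neg hrq]
        by_contra hne
        have hrpr : r.Prime := Nat.prime_of_mem_primeFactors
          (Nat.support_factorization _ ▸ Finsupp.mem_support_iff.2 hne)
        rcases hG r hrpr (Nat.dvd_of_factorization_pos hne) with h | h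
        · exact hrp h.symm
        · exact hrq h.symm⟩
    haveI := hsol
    by_cases hsub : ∃ M : Subgroup G, (T : Subgroup G) ≤ M ∧ M ≠ ⊤ ∧ q ∣ Nat.card M
    · obtain ⟨M, hTM, hM, hqM⟩ := hsub
      have hlt : Nat.card M < Nat.card G :=
        lt_of_le_of_ne M.card_le_card_group fun e => hM (eq_top_of_card_eq M e)
      obtain ⟨K, y, hK, ⟨k, hk⟩, hyN, hyC⟩ := ih M (by omega)
        (fun r hr hd => hG r hr (hd.trans M.card_subgroup_dvd_card)) hqM
        (core_bot_sub hsol hO T hTM) (T.subtype hTM)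
      rw [Sylow.coe_subtype] at hK
      refine ⟨K.map M.subtype, y, hK.map_subtype hTM, ⟨k, by rwa [Subgroup.orderOf_coe]⟩, ?_, ?_⟩
      · rw [mem_normalizer_iff]
        intro x
        constructor
        · rintro ⟨z, hz, rfl⟩
          exact ⟨y * z * y⁻¹, (mem_normalizer_iff.1 hyN z).1 hz, rfl⟩
        · rintro ⟨z, hz, hzx⟩
          refine ⟨y⁻¹ * z * y, ?_, ?_⟩
          · exact (mem_normalizer_iff.1 hyN _).2 (by
              rw [show y * (y⁻¹ * z * y) * y⁻¹ = z by group]; exact hz)
          · show (y : G)⁻¹ * (z : G) * y = x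
            rw [show (z : G) = (y : G) * x * (y : G)⁻¹ from hzx]; group
      · intro h
        refine hyC (mem_centralizer_iff.2 fun z hz => Subtype.ext ?_)
        exact (mem_centralizer_iff.1 h) z ⟨z, hz, rfl⟩
    push Not at hsub
    have hT1 : (T : Subgroup G) ≠ ⊥ := by
      intro hbot
      have hp' : (Nat.card G).Coprime p := by
        rw [Nat.coprime_comm, hp.out.coprime_iff_not_dvd]
        exact fun h => T.ne_bot_of_dvd_card h hbot
      have htop : (⊤ : Subgroup G) ≤ Cfsg.pPrimeCore p G :=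
        Cfsg.Lib.Components.le_pPrimeCore (by rwa [Subgroup.card_top])
      rw [hO, le_bot_iff] at htop
      rw [← Subgroup.card_top (G := G), htop, Subgroup.card_bot] at hqG
      exact hq.out.not_dvd_one hqG
    set W₁ := Cfsg.omegaOne p ((T : Subgroup G) ⊓ centralizer ((T : Subgroup G) : Set G)) with hW₁
    set J := Cfsg.thompsonSubgroupOf p (T : Subgroup G) with hJ
    obtain ⟨W, hW, hWn, hW1⟩ : ∃ W, CharSub (T : Subgroup G) W ∧ W.Normal ∧ W ≠ ⊥ := by
      by_cases hN : normalizer (J : Set G) = ⊤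
      · exact ⟨J, charSub_thompson _, normalizer_eq_top_iff.1 hN,
          Cfsg.Lib.Thompson.thompsonSubgroupOf_ne_bot T.isPGroup' hT1⟩
      · have hTJ : (T : Subgroup G) ≤ normalizer (J : Set G) :=
          le_trans le_normalizer (charSub_thompson _).normalizer_le
        by_cases hC : centralizer (W₁ : Set G) = ⊤
        · refine ⟨W₁, charSub_omega p _, ⟨fun w hw g => ?_⟩, ?_⟩
          · have h1 : g ∈ centralizer (W₁ : Set G) := hC ▸ mem_top g
            rw [← (mem_centralizer_iff.1 h1) w hw, mul_inv_cancel_right]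
            exact hw
          · intro hbot
            haveI : Nontrivial ((T : Subgroup G) ⊓ centralizer ((T : Subgroup G) : Set G) : Subgroup G) :=
              (nontrivial_iff_ne_bot _).2 (Cfsg.Lib.Thompson.center_ne_bot T.isPGroup' hT1)
            have hp' : IsPGroup p ((T : Subgroup G) ⊓ centralizer ((T : Subgroup G) : Set G) : Subgroup G) :=
              T.isPGroup'.to_le inf_le_left
            obtain ⟨k, hk0, hk⟩ := hp'.nontrivial_iff_card.1 inferInstance
            obtain ⟨z, hz⟩ := exists_prime_orderOf_dvd_card' p (hk ▸ dvd_pow_self p hk0.ne')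
            have hzW : (z : G) ∈ W₁ := subset_closure ⟨z.2, by
              rw [← Subgroup.orderOf_coe] at hz
              have := pow_orderOf_eq_one (z : G)
              rwa [hz] at this⟩
            rw [hbot, mem_bot] at hzW
            rw [show z = 1 from Subtype.ext hzW, orderOf_one] at hz
            exact hp.out.one_lt.ne hz
        · exfalso
          have hTC : (T : Subgroup G) ≤ centralizer (W₁ : Set G) := fun t ht =>
            mem_centralizer_iff.2 fun w hw => by
              have hwc : w ∈ centralizer ((T : Subgroup G) : Set G) := by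
                have : W₁ ≤ centralizer ((T : Subgroup G) : Set G) := by
                  rw [hW₁, Cfsg.omegaOne, closure_le]
                  exact fun x hx => (mem_inf.1 hx.1).2
                exact this hw
              exact ((mem_centralizer_iff.1 hwc) t ht).symm
          have hT' : ∀ M : Subgroup G, (T : Subgroup G) ≤ M → M ≠ ⊤ → M = T := by
            intro M hTM hM
            refine T.is_maximal' ?_ hTM
            refine IsPGroup.of_card (n := (Nat.card M).primeFactorsList.length)
              (Nat.eq_prime_pow_of_unique_prime_dvd Nat.card_pos.ne' fun {r} hr hd => ?_)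
            rcases hG r hr (hd.trans M.card_subgroup_dvd_card) with h | h
            · exact h
            · exact absurd (h ▸ hd) (hsub M hTM hM)
          have h1 := hT' _ hTC hC
          have h2 := hT' _ hTJ hN
          have htop : (T : Subgroup G) = ⊤ := eq_top_iff.2 fun g _ => by
            obtain ⟨c, hc, m, hm, rfl⟩ := factorizable hpq' h23 hsol hG hO T g
            exact mul_mem (h1 ▸ hc) (h2 ▸ hm)
          have := hG
          exact not_dvd_of_pGroup hpq' T.isPGroup' (by rw [htop, Subgroup.card_top]; exact hqG)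
    by_cases hall : ∀ y : G, (∃ k, orderOf y = q ^ k) → y ∈ centralizer (W : Set G)
    swap
    · push Not at hall
      obtain ⟨y, hy, hyC⟩ := hall
      exact ⟨W, y, hW, hy, by rw [normalizer_eq_top_iff.2 hWn]; exact mem_top y, hyC⟩
    haveI := hWn
    set π := QuotientGroup.mk' W with hπ
    have hsur : Function.Surjective π := QuotientGroup.mk'_surjective W
    have hWp : IsPGroup p W := T.isPGroup'.to_le hW.1
    have hcore : Cfsg.pPrimeCore p (G ⧸ W) = ⊥ := by
      set E := Cfsg.pPrimeCore p (G ⧸ W) with hE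
      set L := E.comap π with hL
      have hWL : W ≤ L := fun w hw => by
        rw [hL, mem_comap, show π w = 1 from (QuotientGroup.eq_one_iff w).2 hw]
        exact one_mem _
      have hLc : Nat.card L = Nat.card W * Nat.card E := Cfsg.Lib.Coprime.card_comap_mk' E
      obtain ⟨Q₀⟩ : Nonempty (Sylow q L) := inferInstance
      set Q := (Q₀ : Subgroup L).map L.subtype with hQ
      have hQc : Q ≤ centralizer (W : Set G) := by
        rintro _ ⟨z, hz, rfl⟩
        obtain ⟨k, hk⟩ := IsPGroup.iff_orderOf.1 Q₀.isPGroup' ⟨z, hz⟩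
        exact hall _ ⟨k, by rw [Subgroup.orderOf_mk] at hk; rw [L.subtype_apply, Subgroup.orderOf_coe, hk]⟩
      have hWQ : W.subgroupOf L ⊔ (Q₀ : Subgroup L) = ⊤ := by
        apply eq_top_of_card_eq
        refine Nat.dvd_antisymm (Subgroup.card_subgroup_dvd_card _) ?_
        have h1 : Nat.card (W.subgroupOf L) = Nat.card W :=
          Nat.card_congr (subgroupOfEquivOfLe hWL).toEquiv
        have hEq : ∃ b, Nat.card E = q ^ b := by
          refine ⟨_, Nat.eq_prime_pow_of_unique_prime_dvd Nat.card_pos.ne' fun {r} hr hd => ?_⟩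
          rcases hG r hr ((hd.trans E.card_subgroup_dvd_card).trans (Subgroup.card_quotient_dvd_card W)) with h | h
          · exfalso
            subst h
            exact hp.out.not_dvd_one
              ((Cfsg.Lib.Components.coprime_card_pPrimeCore (G := G ⧸ W) r).gcd_eq_one ▸
                Nat.dvd_gcd hd dvd_rfl)
          · exact h
        obtain ⟨b, hb⟩ := hEq
        have h2 : q ^ b ∣ Nat.card (Q₀ : Subgroup L) := Q₀.pow_dvd_card_of_pow_dvd_card
          (by rw [hLc, hb]; exact dvd_mul_left _ _)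
        have hco : (Nat.card W).Coprime (q ^ b) := by
          refine Nat.Coprime.pow_right b ?_
          rw [Nat.coprime_comm, hq.out.coprime_iff_not_dvd]
          exact not_dvd_of_pGroup hpq' hWp
        rw [hLc, hb]
        exact hco.mul_dvd_of_dvd_of_dvd (h1 ▸ Subgroup.card_dvd_of_le le_sup_left)
          (h2.trans (Subgroup.card_dvd_of_le le_sup_right))
      haveI hQ₀n : (Q₀ : Subgroup L).Normal := by
        rw [← normalizer_eq_top_iff, eq_top_iff, ← hWQ]
        refine sup_le (le_trans ?_ (centralizer_le_normalizer _)) le_normalizer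
        intro w hw
        rw [mem_centralizer_iff]
        intro z hz
        exact Subtype.ext ((mem_centralizer_iff.1 (hQc ⟨z, hz, rfl⟩)) w hw).symm
      haveI : (Q₀ : Subgroup L).Characteristic := Sylow.characteristic_of_normal Q₀ inferInstance
      haveI : L.Normal := (Cfsg.Lib.Components.pPrimeCore_normal' p).comap π
      have hQbot : Q = ⊥ := by
        have h : Q ≤ Cfsg.pPrimeCore p G := Cfsg.Lib.Components.le_pPrimeCore (by
          rw [Nat.coprime_comm, hp.out.coprime_iff_not_dvd]
          exact not_dvd_of_pGroup hpq'.symm (Q₀.isPGroup'.map _))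
        rw [hO] at h
        exact le_bot_iff.1 h
      have hQ₀bot : (Q₀ : Subgroup L) = ⊥ :=
        (Subgroup.map_eq_bot_iff_of_injective _ L.subtype_injective).1 hQbot
      rw [hQ₀bot, sup_bot_eq] at hWQ
      refine (eq_bot_iff_forall _).2 fun e he => ?_
      obtain ⟨g, rfl⟩ := hsur e
      have : (⟨g, he⟩ : L) ∈ W.subgroupOf L := hWQ ▸ mem_top _
      exact (QuotientGroup.eq_one_iff g).2 this
    have hlt : Nat.card (G ⧸ W) < Nat.card G := Cfsg.Lib.Coprime.card_quotient_lt hW1
    have hqQ : q ∣ Nat.card (G ⧸ W) := by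
      rw [Subgroup.card_eq_card_quotient_mul_card_subgroup W] at hqG
      exact ((Nat.Prime.dvd_mul hq.out).1 hqG).resolve_right (not_dvd_of_pGroup hpq' hWp)
    obtain ⟨K, z, hK, ⟨k, hk⟩, hzN, hzC⟩ := ih (G ⧸ W) (by omega)
      (fun r hr hd => hG r hr (hd.trans (Subgroup.card_quotient_dvd_card W))) hqQ hcore
      (T.mapSurjective hsur)
    rw [Sylow.coe_mapSurjective] at hK
    obtain ⟨y₀, hy₀⟩ := hsur z
    obtain ⟨y, -, hyq, hyz⟩ := exists_qpart π (y₀ := y₀) (k := k) (by rw [hy₀, hk])
    rw [hy₀] at hyz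
    refine ⟨K.comap π, y, hW.comap hK, hyq, ?_, ?_⟩
    · rw [mem_normalizer_iff]
      intro x
      simp only [mem_comap, map_mul, map_inv, hyz]
      exact mem_normalizer_iff.1 hzN _
    · intro h
      refine hzC (mem_centralizer_iff.2 fun w hw => ?_)
      obtain ⟨x, rfl⟩ := hsur w
      have h2 := congrArg π ((mem_centralizer_iff.1 h) x hw)
      rwa [map_mul, map_mul, hyz] at h2

end Cfsg.Lib.Automizer
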