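/-
A prime dividing some p-automizer divides the automizer of a normal subgroup of a Sylow p-subgroup.
-/
import Cfsg.Agent.SolvStruct.Automizer.Core

set_option autoImplicit false

namespace Cfsg.Lib.Automizer

open Subgroup

universe u

variable {G : Type u} [Group G] [Finite G] {p q : ℕ}

/-- `q` divides the order of the automizer of `H`. -/
def Auto (q : ℕ) (H : Subgroup G) : Prop :=
  q ∣ ((centralizer (H : Set G)).subgroupOf (normalizer (H : Set G))).index

theorem centralizer_normal_in (H : Subgroup G) :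
    ((centralizer (H : Set G)).subgroupOf (normalizer (H : Set G))).Normal := by
  refine ⟨fun c hc g => ?_⟩
  rw [mem_subgroupOf, mem_centralizer_iff] at hc ⊢
  intro x hx
  have hg := mem_normalizer_iff.1 g.2
  have h1 := hc ((g : G)⁻¹ * x * g) (by
    rw [SetLike.mem_coe, hg, show (g : G) * ((g : G)⁻¹ * x * g) * (g : G)⁻¹ = x by group]
    exact hx)
  simp only [Subgroup.coe_mul, Subgroup.coe_inv]
  calc x * ((g : G) * c * (g : G)⁻¹) = g * ((g : G)⁻¹ * x * g * c) * (g : G)⁻¹ := by group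
    _ = g * ((c : G) * ((g : G)⁻¹ * x * g)) * (g : G)⁻¹ := by rw [h1]
    _ = (g : G) * c * (g : G)⁻¹ * x := by group

/-- An element of `q`-power order realising a divisor `q` of an automizer. -/
theorem element_of_auto [hq : Fact q.Prime] {H : Subgroup G} (h : Auto q H) :
    ∃ y, (∃ k, orderOf y = q ^ k) ∧ y ∈ normalizer (H : Set G) ∧ y ∉ centralizer (H : Set G) := by
  haveI := centralizer_normal_in H
  obtain ⟨z, hz⟩ := exists_prime_orderOf_dvd_card' q
    (show q ∣ Nat.card (normalizer (H : Set G) ⧸ (centralizer (H : Set G)).subgroupOf (normalizer (H : Set G)))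
      by rw [← Subgroup.index_eq_card]; exact h)
  obtain ⟨y₀, rfl⟩ := QuotientGroup.mk'_surjective _ z
  obtain ⟨y, -, ⟨k, hk⟩, hyf⟩ := exists_qpart _ (y₀ := y₀) (k := 1) (by rw [pow_one, hz])
  refine ⟨y, ⟨k, by rw [Subgroup.orderOf_coe, hk]⟩, y.2, fun hc => ?_⟩
  rw [← hyf, show QuotientGroup.mk' _ y = 1 from (QuotientGroup.eq_one_iff y).2 hc, orderOf_one] at hz
  exact hq.out.one_lt.ne hz

theorem auto_of_element [hq : Fact q.Prime] {K : Subgroup G} {y : G} {k : ℕ}
    (hy : orderOf y = q ^ k) (hN : y ∈ normalizer (K : Set G)) (hC : y ∉ centralizer (K : Set G)) :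
    Auto q K := by
  set C := (centralizer (K : Set G)).subgroupOf (normalizer (K : Set G)) with hCdef
  haveI : C.Normal := centralizer_normal_in _
  have h1 : orderOf (QuotientGroup.mk' C ⟨y, hN⟩) ∣ q ^ k := by
    refine orderOf_dvd_of_pow_eq_one ?_
    rw [← map_pow, show (⟨y, hN⟩ : normalizer (K : Set G)) ^ q ^ k = 1 from
      Subtype.ext (by simp [← hy, pow_orderOf_eq_one]), map_one]
  obtain ⟨i, -, hi⟩ := (Nat.dvd_prime_pow hq.out).1 h1
  rcases i with _ | i
  · rw [pow_zero, orderOf_eq_one_iff] at hi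
    exact absurd ((QuotientGroup.eq_one_iff _).1 hi) hC
  · rw [Auto, ← hCdef, Subgroup.index_eq_card]
    exact (dvd_pow_self q i.succ_ne_zero).trans (hi ▸ _root_.orderOf_dvd_natCard _)

omit [Finite G] in
theorem mem_normalizer_sup {A B : Subgroup G} {g : G} (hA : g ∈ normalizer (A : Set G))
    (hB : g ∈ normalizer (B : Set G)) : g ∈ normalizer ((A ⊔ B : Subgroup G) : Set G) := by
  have key : ∀ a : G, a ∈ normalizer (A : Set G) → a ∈ normalizer (B : Set G) →
      ∀ x ∈ A ⊔ B, a * x * a⁻¹ ∈ A ⊔ B := fun a ha hb x hx =>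
    (sup_le (fun y hy => mem_sup_left ((mem_normalizer_iff.1 ha y).1 hy))
      (fun y hy => mem_sup_right ((mem_normalizer_iff.1 hb y).1 hy)) :
        A ⊔ B ≤ (A ⊔ B).comap (MulAut.conj a).toMonoidHom) hx
  rw [mem_normalizer_iff]
  refine fun x => ⟨key g hA hB x, fun hx => ?_⟩
  have := key g⁻¹ (inv_mem hA) (inv_mem hB) _ hx
  rwa [inv_inv, show g⁻¹ * (g * x * g⁻¹) * g = x by group] at this

/-- The exponent of `p` in the order of the normaliser. -/
noncomputable def depth (p : ℕ) (H : Subgroup G) : ℕ := (Nat.card (normalizer (H : Set G))).factorization p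

theorem le_depth [hp : Fact p.Prime] {H U : Subgroup G} {n : ℕ} (hU : Nat.card U = p ^ n)
    (hle : U ≤ normalizer (H : Set G)) : n ≤ depth p H :=
  (hp.out.pow_dvd_iff_le_factorization Nat.card_pos.ne').1 (hU ▸ Subgroup.card_dvd_of_le hle)

variable (hsol : ∀ H : Subgroup G, IsPGroup p H → Cfsg.IsPSolvable p
  (normalizer (H : Set G) ⧸ (centralizer (H : Set G)).subgroupOf (normalizer (H : Set G))))

/-- Enlarge `H` so that it contains the `p`-part of its centralizer. -/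
theorem absorb [hp : Fact p.Prime] [hq : Fact q.Prime] {H : Subgroup G} (hH : IsPGroup p H)
    (hqH : Auto q H) :
    ∃ (H₁ T : Subgroup G), IsPGroup p H₁ ∧ Auto q H₁ ∧ Nat.card T = p ^ depth p H ∧
      T ≤ normalizer (H₁ : Set G) ∧ H₁ ≤ T ∧ T ⊓ centralizer (H₁ : Set G) ≤ H₁ := by
  set N := normalizer (H : Set G) with hN
  set C := (centralizer (H : Set G)).subgroupOf N with hC
  haveI : C.Normal := centralizer_normal_in _
  obtain ⟨T₀⟩ : Nonempty (Sylow p N) := inferInstance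
  set T := (T₀ : Subgroup N).map N.subtype with hT
  have hTc : Nat.card T = p ^ depth p H := by
    rw [hT, ← Nat.card_congr ((T₀ : Subgroup N).equivMapOfInjective N.subtype N.subtype_injective).toEquiv,
      T₀.card_eq_multiplicity]
    rfl
  have hHT : H ≤ T := by
    have h1 : H.subgroupOf N ≤ (T₀ : Subgroup N) := by
      haveI : (H.subgroupOf N).Normal := normal_subgroupOf_iff_le_normalizer (le_normalizer) |>.2 le_rfl
      exact (Cfsg.Lib.Components.le_pCore (N := H.subgroupOf N) (hH.comap_subtype)).trans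
        (Cfsg.Lib.Coprime.pCore_le_sylow p T₀)
    have h2 := Subgroup.map_mono (f := N.subtype) h1
    rwa [subgroupOf_map_subtype, inf_eq_left.2 (le_normalizer : H ≤ N)] at h2
  have hTN : T ≤ N := map_subtype_le _
  obtain ⟨P, hP⟩ := sylow_inf_normal T₀ C
  have hsup := Sylow.normalizer_sup_eq_top P
  obtain ⟨z, hz⟩ : ∃ z : N ⧸ C, orderOf z = q := exists_prime_orderOf_dvd_card' q
    (by rw [← Subgroup.index_eq_card]; exact hqH)
  obtain ⟨y₀, rfl⟩ := QuotientGroup.mk'_surjective C z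
  obtain ⟨n, hn, c, hc, rfl⟩ := Subgroup.mem_sup_of_normal_right.1 (hsup.symm ▸ mem_top y₀)
  rw [map_mul, show QuotientGroup.mk' C c = 1 from (QuotientGroup.eq_one_iff c).2 hc, mul_one] at hz
  obtain ⟨y, hyn, ⟨k, hk⟩, hyf⟩ := exists_qpart (QuotientGroup.mk' C) (y₀ := n) (k := 1) (by rw [pow_one, hz])
  have hyC : (y : G) ∉ centralizer (H : Set G) := by
    intro h
    have h1 : QuotientGroup.mk' C y = 1 := (QuotientGroup.eq_one_iff y).2 h
    rw [← hyf, h1, orderOf_one] at hz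
    exact hq.out.one_lt.ne hz
  have hyN := (zpowers_le.2 hn) hyn
  rw [hP] at hyN
  set TC := T ⊓ centralizer (H : Set G) with hTC
  have hmap : ((T₀ : Subgroup N) ⊓ C).map N.subtype = TC := by
    ext x
    constructor
    · rintro ⟨w, ⟨hw1, hw2⟩, rfl⟩
      exact ⟨⟨w, hw1, rfl⟩, hw2⟩
    · rintro ⟨⟨w, hw1, rfl⟩, hw2⟩
      exact ⟨w, ⟨hw1, hw2⟩, rfl⟩
  have hnormC : ∀ g ∈ N, ∀ x ∈ centralizer (H : Set G), g * x * g⁻¹ ∈ centralizer (H : Set G) :=
    fun g hg x hx => (inferInstance : C.Normal).conj_mem ⟨x, centralizer_le_normalizer _ hx⟩ hx ⟨g, hg⟩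
  have hTnorm : T ≤ normalizer (TC : Set G) := by
    intro g hg
    rw [mem_normalizer_iff]
    intro x
    constructor
    · rintro ⟨hx1, hx2⟩
      exact ⟨T.mul_mem (T.mul_mem hg hx1) (T.inv_mem hg), hnormC g (hTN hg) x hx2⟩
    · rintro ⟨hx1, hx2⟩
      have e : x = g⁻¹ * (g * x * g⁻¹) * g⁻¹⁻¹ := by group
      rw [e]
      exact ⟨T.mul_mem (T.mul_mem (T.inv_mem hg) hx1) (T.inv_mem (T.inv_mem hg)),
        hnormC _ (N.inv_mem (hTN hg)) _ hx2⟩
  have hyTC : (y : G) ∈ normalizer (TC : Set G) := by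
    rw [mem_normalizer_iff, ← hmap]
    intro x
    constructor
    · rintro ⟨w, hw, rfl⟩
      exact ⟨y * w * y⁻¹, (mem_normalizer_iff.1 hyN w).1 hw, rfl⟩
    · rintro ⟨w, hw, hwx⟩
      refine ⟨y⁻¹ * w * y, (mem_normalizer_iff.1 hyN _).2 (by
        rw [show y * (y⁻¹ * w * y) * y⁻¹ = w by group]; exact hw), ?_⟩
      show (y : G)⁻¹ * (w : G) * y = x
      rw [show (w : G) = (y : G) * x * (y : G)⁻¹ from hwx]; group
  have hnorm : ∀ g : G, g ∈ N → g ∈ normalizer (TC : Set G) →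
      g ∈ normalizer ((H ⊔ TC : Subgroup G) : Set G) := fun g h1 h2 =>
    mem_normalizer_sup h1 h2
  refine ⟨H ⊔ TC, T, (T₀.isPGroup'.map N.subtype).to_le (sup_le hHT inf_le_left), ?_, hTc,
    fun g hg => hnorm g (hTN hg) (hTnorm hg), sup_le hHT inf_le_left, fun x hx => ?_⟩
  · refine auto_of_element (y := (y : G)) (k := k) (by rw [Subgroup.orderOf_coe, hk])
      (hnorm _ y.2 hyTC) fun h => hyC ?_
    exact centralizer_le (show (H : Set G) ⊆ ((H ⊔ TC : Subgroup G) : Set G) from fun v hv => mem_sup_left hv) h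
  · obtain ⟨hx1, hx2⟩ := mem_inf.1 hx
    exact mem_sup_right (mem_inf.2 ⟨hx1,
      centralizer_le (show (H : Set G) ⊆ ((H ⊔ TC : Subgroup G) : Set G) from fun v hv => mem_sup_left hv) hx2⟩)

include hsol in
/-- A deeper subgroup, when the Sylow subgroup of the normaliser is not Sylow in `G`. -/
theorem exists_char [hp : Fact p.Prime] [hq : Fact q.Prime] (hpq : p ≠ q)
    (h23 : ¬ ((p = 2 ∧ q = 3) ∨ (p = 3 ∧ q = 2))) {H T : Subgroup G} (hH : IsPGroup p H)
    (hqH : Auto q H) (hTN : T ≤ normalizer (H : Set G)) (hHT : H ≤ T)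
    (hTc : Nat.card T = p ^ depth p H) (hself : T ⊓ centralizer (H : Set G) ≤ H) :
    ∃ K : Subgroup G, Auto q K ∧ CharSub T K := by
  set N := normalizer (H : Set G) with hN
  set C := (centralizer (H : Set G)).subgroupOf N with hC
  haveI : C.Normal := centralizer_normal_in _
  haveI hHn : (H.subgroupOf N).Normal := normal_subgroupOf_iff_le_normalizer (le_normalizer) |>.2 le_rfl
  let T₁ : Sylow p N := Sylow.ofCard (T.subgroupOf N)
    (by rw [Nat.card_congr (subgroupOfEquivOfLe hTN).toEquiv, hTc]; rfl)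
  have hT₁ : (T₁ : Subgroup N) = T.subgroupOf N := rfl
  -- the centraliser has a central Sylow subgroup
  obtain ⟨P, hP⟩ := sylow_inf_normal T₁ C
  have hPcen : normalizer ((P : Subgroup C) : Set C) ≤ centralizer ((P : Subgroup C) : Set C) := by
    intro a _
    rw [mem_centralizer_iff]
    intro v hv
    have h1 : (v : N) ∈ (T₁ : Subgroup N) ⊓ C := hP ▸ ⟨v, hv, rfl⟩
    have h2 : ((v : N) : G) ∈ H := hself ⟨(mem_inf.1 h1).1, (mem_inf.1 h1).2⟩
    exact Subtype.ext (Subtype.ext ((mem_centralizer_iff.1 a.2) _ h2))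
  have hcompl := MonoidHom.ker_transferSylow_isComplement' P hPcen
  set D₀ := Cfsg.pPrimeCore p C with hD₀
  have hkerle : (MonoidHom.transferSylow P hPcen).ker ≤ D₀ := by
    refine Cfsg.Lib.Components.le_pPrimeCore ?_
    rw [← hcompl.index_eq_card]
    exact Nat.coprime_comm.1 (hp.out.coprime_iff_not_dvd.2 P.not_dvd_index)
  have hDidx : ∃ m, D₀.index = p ^ m := by
    have h1 := Subgroup.index_dvd_of_le hkerle
    rw [hcompl.symm.index_eq_card] at h1
    obtain ⟨a, ha⟩ := IsPGroup.iff_card.1 P.isPGroup'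
    rw [ha] at h1
    obtain ⟨m, -, hm⟩ := (Nat.dvd_prime_pow hp.out).1 h1
    exact ⟨m, hm⟩
  haveI : D₀.Characteristic := characteristic_iff_map_le.2 fun α => Cfsg.Lib.GaschutzYen.map_pPrimeCore_aut α
  set D := D₀.map C.subtype with hD
  haveI : D.Normal := by rw [hD]; infer_instance
  have hDcop : (Nat.card D).Coprime p := by
    rw [hD, ← Nat.card_congr (D₀.equivMapOfInjective C.subtype C.subtype_injective).toEquiv]
    exact Cfsg.Lib.Components.coprime_card_pPrimeCore p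
  have hDC : D ≤ C := map_subtype_le _
  have hdisj : ∀ v : N, v ∈ D → (∃ a, orderOf v = p ^ a) → v = 1 := by
    rintro v hv ⟨a, ha⟩
    have h1 : orderOf v ∣ Nat.card D := by
      rw [← Subgroup.orderOf_mk v hv]; exact _root_.orderOf_dvd_natCard _
    rw [← orderOf_eq_one_iff]
    exact Nat.eq_one_of_dvd_coprimes ((hDcop.symm).pow_left a) ha.dvd h1
  have hTp : ∀ v : N, v ∈ (T₁ : Subgroup N) → ∃ a, orderOf v = p ^ a := fun v hv => by
    obtain ⟨a, ha⟩ := IsPGroup.iff_orderOf.1 T₁.isPGroup' ⟨v, hv⟩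
    exact ⟨a, by rwa [Subgroup.orderOf_mk] at ha⟩
  -- a Hall {p, q}-subgroup of the automizer
  have hsur := QuotientGroup.mk'_surjective C
  obtain ⟨Rb, hTRb, hRb, hRbi⟩ := exists_pq_hall (q := q) hpq (hsol H hH) (T₁.mapSurjective hsur)
  rw [Sylow.coe_mapSurjective] at hTRb
  set R := Rb.comap (QuotientGroup.mk' C) with hR
  have hTR : (T₁ : Subgroup N) ≤ R := (le_comap_map _ _).trans (comap_mono hTRb)
  have hCR : C ≤ R := fun c hc => by
    rw [hR, mem_comap, show QuotientGroup.mk' C c = 1 from (QuotientGroup.eq_one_iff c).2 hc]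
    exact one_mem _
  have hCRidx : C.relIndex R = Nat.card Rb := by
    have h1 := Subgroup.relIndex_comap (⊥ : Subgroup (N ⧸ C)) (QuotientGroup.mk' C) R
    rw [MonoidHom.comap_bot, QuotientGroup.ker_mk', hR, map_comap_eq_self_of_surjective hsur,
      Subgroup.relIndex_bot_left] at h1
    exact h1
  haveI : (D.subgroupOf R).Normal := inferInstance
  set X := R ⧸ D.subgroupOf R with hX
  set π : R →* X := QuotientGroup.mk' (D.subgroupOf R) with hπ
  have hπsur : Function.Surjective π := QuotientGroup.mk'_surjective _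
  have hXcard : Nat.card X = D.relIndex C * Nat.card Rb := by
    rw [hX, ← Subgroup.index_eq_card, ← hCRidx]
    exact (relIndex_mul_relIndex D C R hDC hCR).symm
  have hDC' : D.relIndex C = D₀.index := by
    rw [Subgroup.relIndex, hD, subgroupOf, comap_map_eq_self_of_injective C.subtype_injective]
  obtain ⟨m, hm⟩ := hDidx
  have hXpq : PQ p q X := by
    intro r hr hd
    rw [hXcard, hDC', hm] at hd
    rcases (Nat.Prime.dvd_mul hr).1 hd with h | h
    · exact Or.inl ((Nat.prime_dvd_prime_iff_eq hr hp.out).1 (hr.dvd_of_dvd_pow h))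
    · exact hRb r hr h
  have hqX : q ∣ Nat.card X := by
    rw [hXcard]
    refine dvd_mul_of_dvd_right ?_ _
    have h1 : q ∣ Nat.card (N ⧸ C) := by rw [← Subgroup.index_eq_card]; exact hqH
    rw [← Rb.card_mul_index] at h1
    exact ((Nat.Prime.dvd_mul hq.out).1 h1).resolve_right hRbi
  have hXcore : Cfsg.pPrimeCore p X = ⊥ := by
    set E := Cfsg.pPrimeCore p X with hE
    set L := E.comap π with hL
    set HR := (H.subgroupOf N).subgroupOf R with hHR
    have hHT₁ : H.subgroupOf N ≤ (T₁ : Subgroup N) := comap_mono hHT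
    haveI : (HR.map π).Normal := Subgroup.Normal.map inferInstance π hπsur
    have hEH : ∀ v, v ∈ E → v ∈ HR.map π → v = 1 := by
      rintro v hvE ⟨w, hw, rfl⟩
      obtain ⟨a, ha⟩ := hTp (w : N) (hHT₁ hw)
      rw [← orderOf_eq_one_iff]
      refine Nat.eq_one_of_dvd_coprimes
        (((Cfsg.Lib.Components.coprime_card_pPrimeCore (G := X) p).symm).pow_left a) ?_
        (by rw [← Subgroup.orderOf_mk _ hvE]; exact _root_.orderOf_dvd_natCard _)
      rw [← ha, Subgroup.orderOf_coe]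
      exact orderOf_map_dvd π w
    have hLC : L.map R.subtype ≤ C := by
      rintro _ ⟨l, hl, rfl⟩
      rw [hC, mem_subgroupOf, mem_centralizer_iff]
      intro h hh
      set hR' : R := ⟨⟨h, le_normalizer hh⟩, hTR (hHT hh)⟩ with hhR'
      have hhHR : hR' ∈ HR := hh
      have h1 : π (l * hR' * l⁻¹ * hR'⁻¹) = 1 := by
        refine hEH _ ?_ ⟨_, mul_mem (Normal.conj_mem inferInstance _ hhHR l) (inv_mem hhHR), rfl⟩
        rw [show l * hR' * l⁻¹ * hR'⁻¹ = l * (hR' * l⁻¹ * hR'⁻¹) by group, map_mul]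
        refine mul_mem hl ?_
        rw [map_mul, map_mul, map_inv, map_inv]
        exact Normal.conj_mem inferInstance _ (inv_mem hl) _
      have h2 : ((l * hR' * l⁻¹ * hR'⁻¹ : R) : N) ∈ D := mem_subgroupOf.1
        ((QuotientGroup.eq_one_iff (l * hR' * l⁻¹ * hR'⁻¹)).1 h1)
      have h3 := hdisj _ h2 (hTp _ (hHT₁ (mul_mem
        (show (l * hR' * l⁻¹ : R) ∈ HR from Normal.conj_mem inferInstance _ hhHR l) (inv_mem hhHR))))
      rw [Subgroup.coe_mul, Subgroup.coe_inv, mul_inv_eq_one] at h3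
      have h4 := congrArg (fun v : N => (v : G)) h3
      simp only [Subgroup.coe_mul, Subgroup.coe_inv] at h4
      exact (mul_inv_eq_iff_eq_mul.1 h4).symm
    have hLcop : (Nat.card L).Coprime p := by
      rw [Cfsg.Lib.Coprime.card_comap_mk']
      refine Nat.Coprime.mul_left ?_ (Cfsg.Lib.Components.coprime_card_pPrimeCore p)
      exact Nat.Coprime.coprime_dvd_left
        (Subgroup.card_dvd_of_injective ((R.subtype.subgroupComap D)) (fun a b h => Subtype.ext (Subtype.ext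
          (congrArg (fun v : D => (v : N)) h)))) hDcop
    have hLD : L.map R.subtype ≤ D := by
      have hn : ((L.map R.subtype).subgroupOf C).Normal := by
        refine ⟨fun v hv c => ?_⟩
        obtain ⟨l, hl, hlv⟩ := hv
        exact ⟨⟨c, hCR c.2⟩ * l * ⟨c, hCR c.2⟩⁻¹, Normal.conj_mem inferInstance l hl _,
          by simp only [Subgroup.coe_subtype] at hlv ⊢; simp [hlv]⟩
      have hle : (L.map R.subtype).subgroupOf C ≤ D₀ := Cfsg.Lib.Components.le_pPrimeCore (by
        rw [Nat.card_congr (subgroupOfEquivOfLe hLC).toEquiv,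
          ← Nat.card_congr (L.equivMapOfInjective R.subtype R.subtype_injective).toEquiv]
        exact hLcop)
      intro v hv
      exact ⟨⟨v, hLC hv⟩, hle hv, rfl⟩
    refine (eq_bot_iff_forall _).2 fun e he => ?_
    obtain ⟨l, rfl⟩ := hπsur e
    exact (QuotientGroup.eq_one_iff l).2 (hLD ⟨l, he, rfl⟩)
  obtain ⟨Kb, z, hKb, ⟨k, hk⟩, hzN, hzC⟩ :=
    core hpq h23 _ X le_rfl hXpq hqX hXcore ((T₁.subtype hTR).mapSurjective hπsur)
  rw [Sylow.coe_mapSurjective, Sylow.coe_subtype] at hKb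
  -- pull back
  set TR := (T₁ : Subgroup N).subgroupOf R with hTRdef
  have hinj : ∀ v ∈ TR, π v = 1 → v = 1 := fun v hv h =>
    Subtype.ext (hdisj _ ((QuotientGroup.eq_one_iff v).1 h) (hTp _ hv))
  set K₀ := TR ⊓ Kb.comap π with hK₀
  have hchar : CharSub TR K₀ := by
    refine ⟨inf_le_left, fun φ x hx => ⟨(φ x).2, ?_⟩⟩
    let f := π.subgroupMap TR
    have hfi : Function.Injective f := by
      rw [injective_iff_map_eq_one]
      intro a ha
      exact Subtype.ext (hinj a a.2 (congrArg Subtype.val ha))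
    let e : TR ≃* TR.map π := MulEquiv.ofBijective f ⟨hfi, π.subgroupMap_surjective TR⟩
    have h2 := hKb.2 ((e.symm.trans φ).trans e) (e x) (mem_inf.1 hx).2
    simp only [MulEquiv.trans_apply, MulEquiv.symm_apply_apply] at h2
    exact h2
  have hKmap : ∀ v ∈ Kb, ∃ w ∈ K₀, π w = v := fun v hv => by
    obtain ⟨w, hw, rfl⟩ := hKb.1 hv
    exact ⟨w, ⟨hw, hv⟩, rfl⟩
  set M := Kb.comap π with hM
  have hK₀M : K₀ ≤ M := inf_le_right
  have hK₀p : IsPGroup p (K₀.subgroupOf M) :=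
    (((T₁.isPGroup'.comap_subtype).to_le inf_le_left : IsPGroup p K₀)).comap_subtype
  have hK₀i : ¬ p ∣ (K₀.subgroupOf M).index := by
    have h1 := (K₀.subgroupOf M).card_mul_index
    rw [Nat.card_congr (subgroupOfEquivOfLe hK₀M).toEquiv, hM, Cfsg.Lib.Coprime.card_comap_mk'] at h1
    have hcard : Nat.card K₀ = Nat.card Kb := by
      refine Nat.card_eq_of_bijective (fun v : K₀ => (⟨π v, (mem_inf.1 v.2).2⟩ : Kb)) ⟨?_, ?_⟩
      · intro a b h
        have h' : π a = π b := congrArg Subtype.val h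
        refine Subtype.ext (inv_mul_eq_one.1 (hinj _ (mul_mem (inv_mem (mem_inf.1 a.2).1) (mem_inf.1 b.2).1) ?_))
        rw [map_mul, map_inv, h', inv_mul_cancel]
      · rintro ⟨v, hv⟩
        obtain ⟨w, hw, rfl⟩ := hKmap v hv
        exact ⟨⟨w, hw⟩, rfl⟩
    rw [hcard, mul_comm] at h1
    rw [Nat.eq_of_mul_eq_mul_right Nat.card_pos h1]
    intro h
    have h2 : Nat.card (D.subgroupOf R) ∣ Nat.card D :=
      Subgroup.card_dvd_of_injective ((R.subtype.subgroupComap D)) (fun a b h => Subtype.ext (Subtype.ext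
        (congrArg (fun v : D => (v : N)) h)))
    exact hp.out.not_dvd_one (hDcop.symm.gcd_eq_one ▸ Nat.dvd_gcd dvd_rfl (h.trans h2))
  obtain ⟨z₀, hz₀⟩ := hπsur z
  have hzM : ∀ v, v ∈ M ↔ z₀ * v * z₀⁻¹ ∈ M := fun v => by
    rw [hM, mem_comap, mem_comap, map_mul, map_mul, map_inv, hz₀]
    exact mem_normalizer_iff.1 hzN _
  let S₁ : Sylow p M := hK₀p.toSylow hK₀i
  set K₂ := (K₀.map (MulAut.conj z₀).toMonoidHom).subgroupOf M with hK₂
  have hK₂le : K₀.map (MulAut.conj z₀).toMonoidHom ≤ M := by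
    rintro _ ⟨v, hv, rfl⟩
    exact (hzM v).1 (hK₀M hv)
  have hK₂p : IsPGroup p K₂ :=
    ((((T₁.isPGroup'.comap_subtype).to_le inf_le_left : IsPGroup p K₀)).map _).comap_subtype
  obtain ⟨S₂, hS₂⟩ := hK₂p.exists_le_sylow
  obtain ⟨mm, hmm⟩ := MulAction.exists_smul_eq M S₂ S₁
  obtain ⟨w, hw, hwm⟩ := hKmap (π mm) mm.2
  set n := w⁻¹ * (mm : R) * z₀ with hn
  have hπn : π n = z := by rw [hn, map_mul, map_mul, map_inv, hwm, inv_mul_cancel, one_mul, hz₀]
  have hnK : n ∈ normalizer (K₀ : Set R) := by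
    have hle : ∀ v ∈ K₀, n * v * n⁻¹ ∈ K₀ := by
      intro v hv
      have h1 : (⟨z₀ * v * z₀⁻¹, (hzM v).1 (hK₀M hv)⟩ : M) ∈ K₂ := ⟨v, hv, rfl⟩
      have h2 : (MulAut.conj mm) ⟨z₀ * v * z₀⁻¹, (hzM v).1 (hK₀M hv)⟩ ∈ (S₁ : Subgroup M) := by
        rw [← hmm, Sylow.coe_subgroup_smul]
        exact ⟨_, hS₂ h1, rfl⟩
      have h3 : (mm : R) * (z₀ * v * z₀⁻¹) * (mm : R)⁻¹ ∈ K₀ := h2
      have h4 := mul_mem (mul_mem (inv_mem hw) h3) hw
      rwa [hn, show w⁻¹ * (mm : R) * z₀ * v * (w⁻¹ * (mm : R) * z₀)⁻¹ =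
        w⁻¹ * ((mm : R) * (z₀ * v * z₀⁻¹) * (mm : R)⁻¹) * w by group]
    rw [mem_normalizer_iff]
    refine fun v => ⟨hle v, fun hv => ?_⟩
    have hmap : K₀.map (MulAut.conj n).toMonoidHom = K₀ := by
      refine eq_of_le_of_card_ge ?_ (le_of_eq ?_)
      · rintro _ ⟨u, hu, rfl⟩; exact hle u hu
      · rw [← Nat.card_congr (K₀.equivMapOfInjective _ (MulAut.conj n).injective).toEquiv]
    rw [← hmap] at hv
    obtain ⟨u, hu, he⟩ := hv
    have : u = v := (MulAut.conj n).injective he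
    exact this ▸ hu
  obtain ⟨y, hyn, ⟨j, hj⟩, hyz⟩ := exists_qpart π (y₀ := n) (k := k) (by rw [hπn, hk])
  rw [hπn] at hyz
  have hchar' : CharSub T ((K₀.map R.subtype).map N.subtype) := (hchar.map_subtype hTR).map_subtype hTN
  refine ⟨(K₀.map R.subtype).map N.subtype, ?_, hchar'⟩
  refine auto_of_element (y := ((y : N) : G)) (k := j) (by rw [Subgroup.orderOf_coe, Subgroup.orderOf_coe, hj]) ?_ ?_
  · have hy := (zpowers_le.2 hnK) hyn
    rw [mem_normalizer_iff]
    intro x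
    constructor
    · rintro ⟨_, ⟨u, hu, rfl⟩, rfl⟩
      exact ⟨_, ⟨y * u * y⁻¹, (mem_normalizer_iff.1 hy u).1 hu, rfl⟩, rfl⟩
    · rintro ⟨_, ⟨u, hu, rfl⟩, he⟩
      refine ⟨_, ⟨y⁻¹ * u * y, (mem_normalizer_iff.1 hy _).2 (by
        rw [show y * (y⁻¹ * u * y) * y⁻¹ = u by group]; exact hu), rfl⟩, ?_⟩
      show ((y : N) : G)⁻¹ * ((u : N) : G) * ((y : N) : G) = x
      rw [show ((u : N) : G) = ((y : N) : G) * x * ((y : N) : G)⁻¹ from he]; group
  · intro h
    refine hzC (mem_centralizer_iff.2 fun v hv => ?_)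
    obtain ⟨u, hu, rfl⟩ := hKmap v hv
    have h1 := (mem_centralizer_iff.1 h) _ ⟨_, ⟨u, hu, rfl⟩, rfl⟩
    have h2 : u * y = y * u := Subtype.ext (Subtype.ext h1)
    rw [← hyz, ← map_mul, h2, map_mul]

include hsol in
theorem main [hp : Fact p.Prime] [hq : Fact q.Prime] (hpq : p ≠ q)
    (h23 : ¬ ((p = 2 ∧ q = 3) ∨ (p = 3 ∧ q = 2))) (H : Subgroup G) (hH : IsPGroup p H)
    (hqH : Auto q H) (P : Sylow p G) :
    ∃ K : Subgroup G, K ≤ (P : Subgroup G) ∧ (P : Subgroup G) ≤ normalizer (K : Set G) ∧ Auto q K := by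
  classical
  obtain ⟨H₀, ⟨hH₀, hqH₀⟩, hmax⟩ := Set.exists_max_image {H : Subgroup G | IsPGroup p H ∧ Auto q H}
    (depth p) (Set.toFinite _) ⟨H, hH, hqH⟩
  obtain ⟨H₁, T, hH₁, hq₁, hTc, hTN, hHT, hself⟩ := absorb hH₀ hqH₀
  have hdepth : depth p H₁ = depth p H₀ :=
    le_antisymm (hmax H₁ ⟨hH₁, hq₁⟩) (le_depth hTc hTN)
  have hTp : IsPGroup p T := IsPGroup.of_card hTc
  obtain ⟨P₁, hP₁⟩ := hTp.exists_le_sylow
  have hTP : (P₁ : Subgroup G) = T := by
    by_contra hne
    have hlt : T < (P₁ : Subgroup G) := lt_of_le_of_ne hP₁ (Ne.symm hne)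
    obtain ⟨K, hqK, hK⟩ := exists_char hsol hpq h23 hH₁ hq₁ hTN hHT (hdepth.symm ▸ hTc) hself
    have hlt' : T < normalizer (T : Set G) ⊓ (P₁ : Subgroup G) := by
      haveI := P₁.isPGroup'.isNilpotent
      have h1 := normalizerCondition_of_isNilpotent (T.subgroupOf (P₁ : Subgroup G)) (by
        refine lt_top_iff_ne_top.2 fun h => hlt.not_ge ?_
        rwa [subgroupOf_eq_top] at h)
      obtain ⟨x, hx, hxT⟩ := SetLike.exists_of_lt h1
      refine lt_of_le_of_ne (le_inf le_normalizer hlt.le) fun e => hxT (mem_subgroupOf.2 ?_)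
      rw [e]
      refine mem_inf.2 ⟨mem_normalizer_iff.2 fun y => ⟨fun hy => ?_, fun hy => ?_⟩, x.2⟩
      · exact (mem_normalizer_iff.1 hx ⟨y, hlt.le hy⟩).1 hy
      · have hy' : y ∈ (P₁ : Subgroup G) := by
          have := mul_mem (mul_mem (inv_mem x.2) (hlt.le hy)) x.2
          rwa [show (x : G)⁻¹ * ((x : G) * y * (x : G)⁻¹) * x = y by group] at this
        exact (mem_normalizer_iff.1 hx ⟨y, hy'⟩).2 hy
    obtain ⟨n, hn⟩ := IsPGroup.iff_card.1
      (P₁.isPGroup'.to_le (inf_le_right : normalizer (T : Set G) ⊓ (P₁ : Subgroup G) ≤ _))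
    have h1 := le_depth hn (inf_le_left.trans hK.normalizer_le)
    have h2 := hmax K ⟨hTp.to_le hK.1, hqK⟩
    have h3 : Nat.card T < Nat.card (normalizer (T : Set G) ⊓ (P₁ : Subgroup G) : Subgroup G) :=
      lt_of_le_of_ne (Subgroup.card_le_of_le hlt'.le)
        fun e => hlt'.ne (eq_of_le_of_card_ge hlt'.le e.ge)
    rw [hTc, hn] at h3
    have := (Nat.pow_lt_pow_iff_right hp.out.one_lt).1 h3
    omega
  obtain ⟨g, hg⟩ := MulAction.exists_smul_eq G P₁ P
  have hP : (P : Subgroup G) = T.map (MulAut.conj g).toMonoidHom := by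
    rw [← hg, Sylow.coe_subgroup_smul, ← hTP]
    rfl
  refine ⟨H₁.map (MulAut.conj g).toMonoidHom, hP ▸ Subgroup.map_mono hHT, ?_, ?_⟩
  · rw [hP]
    exact (Subgroup.map_mono hTN).trans (le_normalizer_map _)
  · obtain ⟨y, ⟨k, hk⟩, hyN, hyC⟩ := element_of_auto hq₁
    refine auto_of_element (y := MulAut.conj g y) (k := k) (by rw [MulEquiv.orderOf_eq, hk])
      ((le_normalizer_map _) ⟨y, hyN, rfl⟩) fun hc => hyC (mem_centralizer_iff.2 fun v hv => ?_)
    refine (MulAut.conj g).injective ?_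
    rw [map_mul, map_mul]
    exact (mem_centralizer_iff.1 hc) _ ⟨v, hv, rfl⟩

end Cfsg.Lib.Automizer
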